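import Groth.Prelude.Def_RedSub

/-!
# Points of `RedSub.pow`, `RedSub.prodMap` and `RedSub.borelMap`
-/

set_option autoImplicit false

universe u

open CategoryTheory MonoidalCategory CartesianMonoidalCategory MonObj GrpObj AlgebraicGeometry

namespace Groth.Agent.RedSub.H634.PowPts

variable {S : Scheme.{u}} {X Y Z : Over S}

/-- the coordinates of `X^n` -/
noncomputable def proj (X : Over S) : (n : ℕ) → Fin n → (_root_.RedSub.pow X n ⟶ X)
  | 0, k => k.elim0
  | n + 1, k => Fin.cases (fst X (_root_.RedSub.pow X n))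
      (fun j => snd X (_root_.RedSub.pow X n) ≫ proj X n j) k

@[simp] lemma proj_zero (n : ℕ) : proj X (n + 1) 0 = fst X (_root_.RedSub.pow X n) := rfl

@[simp] lemma proj_succ (n : ℕ) (k : Fin n) :
    proj X (n + 1) k.succ = snd X (_root_.RedSub.pow X n) ≫ proj X n k := rfl

/-- the point of `X^n` with given coordinates -/
noncomputable def tuple : (n : ℕ) → (Fin n → (Y ⟶ X)) → (Y ⟶ _root_.RedSub.pow X n)
  | 0, _ => toUnit Y
  | n + 1, g => lift (g 0) (tuple n (fun k => g k.succ))

lemma tuple_proj : ∀ (n : ℕ) (g : Fin n → (Y ⟶ X)) (k : Fin n), tuple n g ≫ proj X n k = g k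
  | 0, _, k => k.elim0
  | n + 1, g, k => by
    refine Fin.cases ?_ (fun j => ?_) k
    · rw [proj_zero]; exact lift_fst _ _
    · rw [proj_succ]
      change lift (g 0) (tuple n (fun k => g k.succ)) ≫ snd X (_root_.RedSub.pow X n) ≫ _ = _
      rw [lift_snd_assoc, tuple_proj n]

lemma pow_hom_ext : ∀ (n : ℕ) {x y : Y ⟶ _root_.RedSub.pow X n},
    (∀ k, x ≫ proj X n k = y ≫ proj X n k) → x = y
  | 0, x, y, _ => toUnit_unique x y
  | n + 1, x, y, h => by
    let x' : Y ⟶ X ⊗ _root_.RedSub.pow X n := x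
    let y' : Y ⟶ X ⊗ _root_.RedSub.pow X n := y
    have h0 : x' ≫ fst X (_root_.RedSub.pow X n) = y' ≫ fst X (_root_.RedSub.pow X n) := h 0
    have h1 : x' ≫ snd X (_root_.RedSub.pow X n) = y' ≫ snd X (_root_.RedSub.pow X n) := by
      apply pow_hom_ext n
      intro k
      rw [Category.assoc, Category.assoc]
      exact h k.succ
    exact CartesianMonoidalCategory.hom_ext x' y' h0 h1

lemma comp_tuple (n : ℕ) (f : Z ⟶ Y) (g : Fin n → (Y ⟶ X)) :
    f ≫ tuple n g = tuple n (fun k => f ≫ g k) := by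
  apply pow_hom_ext
  intro k
  rw [Category.assoc, tuple_proj, tuple_proj]

variable {G : Over S} [GrpObj G]

lemma comp_prodMap : ∀ (n : ℕ) (f : Fin n → (X ⟶ G)) (y : Y ⟶ _root_.RedSub.pow X n),
    y ≫ _root_.RedSub.prodMap X n f = (List.ofFn fun k => (y ≫ proj X n k) ≫ f k).prod
  | 0, _, y => by
    rw [List.ofFn_zero, List.prod_nil]
    exact MonObj.comp_one y
  | n + 1, f, y => by
    let y' : Y ⟶ X ⊗ _root_.RedSub.pow X n := y
    have h1 : y' ≫ ((fst X (_root_.RedSub.pow X n) ≫ f 0) *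
        (snd X (_root_.RedSub.pow X n) ≫ _root_.RedSub.prodMap X n (fun k => f k.succ))) =
        ((y' ≫ fst X (_root_.RedSub.pow X n)) ≫ f 0) *
        (List.ofFn fun k => (y' ≫ snd X (_root_.RedSub.pow X n) ≫ proj X n k) ≫ f k.succ).prod := by
      rw [MonObj.comp_mul, Category.assoc]
      congr 1
      rw [← Category.assoc, comp_prodMap n]
      simp only [Category.assoc]
    rw [List.ofFn_succ, List.prod_cons]
    exact h1

/-- points of the Borel map -/
lemma comp_borelMap (D : Red.SplitRed G) {m : ℕ} (epos : Fin m → D.idx)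
    (y : Y ⟶ D.T ⊗ _root_.RedSub.pow (Red.Ga S) m) :
    y ≫ _root_.RedSub.borelMap D epos = ((y ≫ fst _ _) ≫ D.i) *
      (List.ofFn fun k => (y ≫ snd _ _ ≫ proj (Red.Ga S) m k) ≫ D.u (epos k)).prod := by
  rw [_root_.RedSub.borelMap, MonObj.comp_mul, Category.assoc]
  congr 1
  rw [← Category.assoc, comp_prodMap]
  simp only [Category.assoc]

end Groth.Agent.RedSub.H634.PowPts
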