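import Groth.Agent.RedSub.H634.TorusCent
import Groth.Agent.RedSub.H634.PowPts

/-!
# Coordinates on the dynamic Borel subgroup of a split reductive group, in any order of the positive roots
-/

set_option autoImplicit false
set_option linter.unusedSectionVars false

universe u

open CategoryTheory MonoidalCategory CartesianMonoidalCategory MonObj GrpObj AlgebraicGeometry
  Limits
open scoped LaurentPolynomial Polynomial TensorProduct

namespace Groth.Agent.RedSub.H634.BorelCoord

open Groth.Agent.Sga3B Groth.Agent.Sga3B.Cell Groth.Agent.Sga3B.Cell.Datum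
  Groth.Agent.Sga3B.Parab Groth.Agent.Sga3B.Parab.Dyn998 Groth.Agent.Sga3B.DSPts
  Groth.Agent.Sga3B.GaPts Groth.Agent.Sga3B.OrbEqui829
  Groth.Agent.Sga3B.Par Groth.Agent.Sga3B.Par.Signs Groth.Agent.Sga3B.PinMod
  Groth.Agent.RedSub.H634.PowPts Groth.Agent.RedSub.H634.TorusCent

section datum

variable {R A : Type u} [CommRing R] [CommRing A] [Algebra R A] [PtGrp R A] {D : Datum R A}
variable {B : Type u} [CommRing B] [Algebra R B]

/-- An injective list of roots completed to a list of all roots. -/
noncomputable def full {m : ℕ} (e : Fin m → D.idx) : List D.idx := by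
  classical exact List.ofFn e ++ (Finset.univ.filter (fun a => a ∉ Set.range e)).toList

lemma full_nodup {m : ℕ} {e : Fin m → D.idx} (he : Function.Injective e) :
    (full (D := D) e).Nodup := by
  classical
  unfold full
  rw [List.nodup_append]
  refine ⟨List.nodup_ofFn.mpr he, Finset.nodup_toList _, ?_⟩
  intro a ha b hb hab
  subst hab
  rw [Finset.mem_toList, Finset.mem_filter] at hb
  exact hb.2 (List.mem_ofFn.mp ha)

lemma mem_full {m : ℕ} (e : Fin m → D.idx) (a : D.idx) : a ∈ full (D := D) e := by
  classical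
  unfold full
  rw [List.mem_append, Finset.mem_toList, Finset.mem_filter]
  by_cases h : a ∈ Set.range e
  · left; exact List.mem_ofFn.mpr h
  · right; exact ⟨Finset.mem_univ _, h⟩

lemma cell_full {m : ℕ} (e : Fin m → D.idx) {y : D.idx → B}
    (hy : ∀ a, a ∉ Set.range e → y a = 0) :
    D.cell (full e) y 1 = (List.ofFn fun k => D.uu (e k) B (y (e k))).prod := by
  classical
  unfold cell full
  rw [List.map_append, List.prod_append, i_one', _root_.mul_one, List.map_ofFn]
  have h1 : ((Finset.univ.filter (fun a => a ∉ Set.range e)).toList.map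
      (fun a => D.uu a B (y a))).prod = 1 := by
    apply List.prod_eq_one
    intro z hz
    obtain ⟨a, ha, rfl⟩ := List.mem_map.mp hz
    rw [Finset.mem_toList, Finset.mem_filter] at ha
    rw [hy a ha.2, uu_zero]
  rw [h1, _root_.mul_one]
  rfl

/-- extension by zero of a family of coordinates -/
noncomputable def ext0 {m : ℕ} (e : Fin m → D.idx) (z : Fin m → B) : D.idx → B := by
  classical exact fun a => if h : ∃ k, e k = a then z h.choose else 0

lemma ext0_apply {m : ℕ} {e : Fin m → D.idx} (he : Function.Injective e) (z : Fin m → B)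
    (k : Fin m) : ext0 (D := D) e z (e k) = z k := by
  classical
  unfold ext0
  have h : ∃ j, e j = e k := ⟨k, rfl⟩
  rw [dif_pos h]
  congr 1
  exact he h.choose_spec

lemma ext0_of_not {m : ℕ} {e : Fin m → D.idx} (z : Fin m → B) {a : D.idx}
    (ha : a ∉ Set.range e) : ext0 (D := D) e z a = 0 := by
  classical
  unfold ext0
  exact dif_neg ha

/-- uniqueness of the coordinates on products of root group elements of positive weight -/
theorem coord_unique (hG : D.Good) (lam : D.M →+ ℤ) {m : ℕ} {e : Fin m → D.idx}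
    (he : Function.Injective e) (hpos : ∀ k, 0 < lam (D.root (e k))) {z z' : Fin m → B}
    (h : (List.ofFn fun k => D.uu (e k) B (z k)).prod =
      (List.ofFn fun k => D.uu (e k) B (z' k)).prod) : z = z' := by
  obtain ⟨δ, hδ, hδ0⟩ := hG (full e) (full_nodup he) (mem_full e)
  have h1 : ∀ z : Fin m → B, D.cell (full e) (ext0 e z) 1 =
      (List.ofFn fun k => D.uu (e k) B (z k)).prod := by
    intro z
    rw [cell_full e (fun a ha => ext0_of_not z ha)]
    congr 2
    funext k
    rw [ext0_apply he]
  have h0 : ∀ (z : Fin m → B) a, lam (D.root a) ≤ 0 → ext0 (D := D) e z a = 0 := by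
    intro z a ha
    apply ext0_of_not
    rintro ⟨k, rfl⟩
    have := hpos k
    omega
  have h2 := (cell_inj hδ hδ0 (k := fun a => lam (D.root a)) (θ := D.cochar lam)
    (fun a => D.ch_cochar lam (D.root a)) (h0 z) (h0 z') ((h1 z).trans (h.trans (h1 z').symm))).1
  funext k
  rw [← ext0_apply he z k, h2, ext0_apply he]

end datum

section scheme

variable {S : Scheme.{u}} {G : Over S} [GrpObj G] (D : Red.SplitRed G) (x : Module.Dual ℤ D.M)

/-- the product of root group points -/
noncomputable def pr {Y : Over S} {m : ℕ} (e : Fin m → D.idx) (z : Fin m → (Y ⟶ Red.Ga S)) :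
    Y ⟶ G := (List.ofFn fun k => z k ≫ D.u (e k)).prod

lemma comp_list_prod {Y Z : Over S} (f : Z ⟶ Y) (l : List (Y ⟶ G)) :
    f ≫ l.prod = (l.map (fun g => f ≫ g)).prod := by
  induction l with
  | nil => exact MonObj.comp_one _
  | cons a l ih => rw [List.map_cons, List.prod_cons, List.prod_cons, MonObj.comp_mul, ih]

lemma comp_pr {Y Z : Over S} (f : Z ⟶ Y) {m : ℕ} (e : Fin m → D.idx)
    (z : Fin m → (Y ⟶ Red.Ga S)) : f ≫ pr D e z = pr D e (fun k => f ≫ z k) := by
  unfold pr
  rw [comp_list_prod, List.map_ofFn]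
  congr 2

variable {C : Type u} [CommRing C] {c : Spec (CommRingCat.of C) ⟶ S}

lemma pts_pr (ch : Chart G c) {m : ℕ} (e : Fin m → D.idx) (z : Fin m → C) :
    ch.pts C (List.ofFn fun k => (ch.datum D).uu (e k) C (z k)).prod =
      pr D e (fun k => gaPt (tB c C) (fnOf c (z k))) := by
  unfold pr
  rw [map_list_prod, List.map_ofFn]
  congr 2
  funext k
  exact ch.pts_uu D (e k) (z k)

/-- **Points contracted by `λ` are products of root group points, in any order.** -/
theorem exists_coord_U {m : ℕ} (e : Fin m → D.idx)  (he : Function.Injective e)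
    (hx : ∀ a, 0 < x (D.P.root a) → a ∈ Set.range e) {g : aff C c ⟶ G}
    (hg : LimOne (coch D x) g) :
    ∃ z : Fin m → (aff C c ⟶ Red.Ga S), g = pr D e z := by
  have haff := D.reductive.1
  obtain ⟨ch⟩ := exists_chart G c
  rw [limOne_iff ch] at hg
  obtain ⟨q, hq, hq0⟩ := hg
  obtain ⟨δ, hδ, hδ0⟩ := ch.good D (full (D := ch.datum D) e)
    (full_nodup (D := ch.datum D) he) (mem_full (D := ch.datum D) e)
  obtain ⟨w, hw, hco⟩ := exists_eq_of_orbit (ch.datum D) hδ hδ0 (lam := ca ch D x) hq hq0
  have hw' : ∀ a, a ∉ Set.range e → w a = 0 := by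
    intro a ha
    apply hw
    by_contra h0
    exact ha (hx a (by rw [not_le] at h0; exact h0))
  rw [cell_full (D := ch.datum D) e hw'] at hco
  have h1 : (Signs.kap c).hom ≫ g = pr D e (fun k => gaPt (tB c C) (fnOf c (w (e k)))) := by
    rw [← pts_pr, ← hco, co, MulEquiv.apply_symm_apply]
  refine ⟨fun k => (Signs.kap c).inv ≫ gaPt (tB c C) (fnOf c (w (e k))), ?_⟩
  rw [← comp_pr, ← h1, Iso.inv_hom_id_assoc]

/-- **Uniqueness of the coordinates.** -/
theorem coord_unique_U {m : ℕ} (e : Fin m → D.idx) (he : Function.Injective e)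
    (hpos : ∀ k, 0 < x (D.P.root (e k))) {z z' : Fin m → (aff C c ⟶ Red.Ga S)}
    (h : pr D e z = pr D e z') : z = z' := by
  have haff := D.reductive.1
  obtain ⟨ch⟩ := exists_chart G c
  choose y hy using fun k => exists_gaPt c ((Signs.kap c).hom ≫ z k)
  choose y' hy' using fun k => exists_gaPt c ((Signs.kap c).hom ≫ z' k)
  have h1 : pr D e (fun k => gaPt (tB c C) (fnOf c (y k))) =
      pr D e (fun k => gaPt (tB c C) (fnOf c (y' k))) := by
    rw [show (fun k => gaPt (tB c C) (fnOf c (y k))) = fun k => (Signs.kap c).hom ≫ z k from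
      (funext hy).symm, show (fun k => gaPt (tB c C) (fnOf c (y' k))) =
      fun k => (Signs.kap c).hom ≫ z' k from (funext hy').symm, ← comp_pr, ← comp_pr, h]
  rw [← pts_pr D ch, ← pts_pr D ch] at h1
  have h2 : y = y' := coord_unique (D := ch.datum D) (ch.good D) (ca ch D x) he hpos
    ((ch.pts C).injective h1)
  funext k
  rw [← cancel_epi (Signs.kap c).hom, hy, hy', h2]

/-- root group points of positive weight are contracted -/
lemma limOne_pr {m : ℕ} (e : Fin m → D.idx) (hpos : ∀ k, 0 < x (D.P.root (e k)))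
    (z : Fin m → (aff C c ⟶ Red.Ga S)) : LimOne (coch D x) (pr D e z) := by
  have h0 : coch D x = BorRP478.coch D x.toAddMonoidHom := by
    rw [coch, cochT, Category.assoc]
  have h1 : ∀ k, LimOne (coch D x) (z k ≫ D.u (e k)) := by
    intro k
    rw [h0]
    exact BorRP478.limOne_u D _ (z k) (e k) (hpos k)
  have h2 : ∀ l : List (aff C c ⟶ G), (∀ g ∈ l, LimOne (coch D x) g) →
      LimOne (coch D x) l.prod := by
    intro l
    induction l with
    | nil => intro _; exact limOne_one (coch D x)
    | cons a l ih =>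
      intro h
      rw [List.prod_cons]
      exact (h a List.mem_cons_self).mul (ih fun g hg => h g (List.mem_cons_of_mem _ hg))
  apply h2
  intro g hg
  obtain ⟨k, rfl⟩ := List.mem_ofFn.mp hg
  exact h1 k

end scheme

section iso

variable {S : Scheme.{u}}

/-- a morphism which is bijective on affine points is an isomorphism -/
theorem isIso_of_bijective {X Y : Over S} (f : X ⟶ Y)
    (h : ∀ (C : Type u) [CommRing C] (c : Spec (CommRingCat.of C) ⟶ S),
      Function.Bijective (fun y : aff C c ⟶ X => y ≫ f)) : IsIso f := by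
  have h2 : ∀ (R : CommRingCat.{u}) (s : Spec R ⟶ S) (t : Over.mk s ⟶ Y),
      ∃ y : Over.mk s ⟶ X, y ≫ f = t := fun R s t => (h R s).2 t
  choose F hF using h2
  obtain ⟨g, hg, -⟩ := AffYoneda.existsUnique_hom (G := Y) (G' := X) F (by
    intro R R' s s' k t
    apply (h R' s').1
    change F R' s' (k ≫ t) ≫ f = (k ≫ F R s t) ≫ f
    rw [hF, Category.assoc, hF])
  refine ⟨g, ?_, ?_⟩
  · apply AffYoneda.hom_ext
    intro R s t
    rw [Category.comp_id]
    apply (h R s).1
    change (t ≫ f ≫ g) ≫ f = t ≫ f
    rw [← Category.assoc, hg]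
    exact hF R s (t ≫ f)
  · apply AffYoneda.hom_ext
    intro R s t
    rw [Category.comp_id, ← Category.assoc, hg]
    exact hF R s t

end iso

section borel

variable {S : Scheme.{u}} {G P : Over S} [GrpObj G] [GrpObj P] (D : Red.SplitRed G)
  (x : Module.Dual ℤ D.M) {p : P ⟶ G}

/-- **`T × ∏ U_a ≅ P_G(λ)`** for a regular cocharacter `λ` of the torus, the product over the roots
of positive weight in any order. -/
theorem exists_iso (hx : ∀ a, x (D.P.root a) ≠ 0) (hP : Parab.IsDynP (coch D x) p) {m : ℕ}
    (e : Fin m → D.idx) (he : Function.Injective e)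
    (hrange : ∀ a, a ∈ Set.range e ↔ 0 < x (D.P.root a)) :
    ∃ f : D.T ⊗ _root_.RedSub.pow (Red.Ga S) m ≅ P, f.hom ≫ p = _root_.RedSub.borelMap D e := by
  have haff := D.reductive.1
  have hpos : ∀ k, 0 < x (D.P.root (e k)) := fun k => (hrange _).1 ⟨k, rfl⟩
  have hZ := isDynZ_of_regular D x hx
  have hpm := hP.mono
  have himono : Mono D.i := D.maximalTorus.2.1
  have hlim : ∀ (C : Type u) [CommRing C] (c : Spec (CommRingCat.of C) ⟶ S)
      (y : aff C c ⟶ D.T ⊗ _root_.RedSub.pow (Red.Ga S) m),
      y ≫ _root_.RedSub.borelMap D e = ((y ≫ fst _ _) ≫ D.i) *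
        pr D e (fun k => y ≫ snd _ _ ≫ proj (Red.Ga S) m k) :=
    fun C _ c y => comp_borelMap D e y
  obtain ⟨f, hf⟩ := (hP.iff_ptP _ (_root_.RedSub.borelMap D e)).2 (by
    intro C _ c y
    rw [hlim]
    exact (orbConst_torus D x _).limEx.mul (limOne_pr D x e hpos _).limEx)
  have hiso : IsIso f := by
    apply isIso_of_bijective
    intro C _ c
    constructor
    · intro y y' h
      have h1 : y ≫ f ≫ p = y' ≫ f ≫ p := by
        rw [← Category.assoc, ← Category.assoc]
        exact congrArg (fun z => z ≫ p) h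
      rw [hf, hlim, hlim] at h1
      obtain ⟨h2, h3⟩ := DynLevi998.levi_unique (orbConst_torus D x _) (limOne_pr D x e hpos _)
        (orbConst_torus D x _) (limOne_pr D x e hpos _) h1
      refine CartesianMonoidalCategory.hom_ext _ _ ((cancel_mono D.i).1 h2) ?_
      apply pow_hom_ext
      intro k
      have h4 := congrFun (coord_unique_U D x e he hpos h3) k
      rw [Category.assoc, Category.assoc]
      exact h4
    · intro g
      have hg : LimEx (coch D x) (g ≫ p) := (hP.iff_ptP _ _).1 ⟨𝟙 _, Category.id_comp _⟩ C c g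
      obtain ⟨z, w, hz, hw, hzw⟩ := hg.exists_levi
      obtain ⟨t, ht⟩ := exists_torus_of_orbConst D x hx hz
      obtain ⟨v, hv⟩ := exists_coord_U D x e he (fun a ha => (hrange a).2 ha) hw
      refine ⟨lift t (tuple m v), ?_⟩
      change lift t (tuple m v) ≫ f = g
      rw [← cancel_mono p, Category.assoc, hf, hlim, lift_fst, ht, ← hzw, hv]
      congr 2
      funext k
      rw [lift_snd_assoc, tuple_proj]
  exact ⟨asIso f, hf⟩

end borel

end Groth.Agent.RedSub.H634.BorelCoord
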