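import Groth.Agent.RedSub.H634.BorelCoord
import Groth.Agent.Sga3B.Parab.DynBorel128
import Groth.Agent.Sga3B.Parab.PbAll910
import Groth.Agent.Sga3B.Parab.PbK1
import Groth.Agent.Sga3B.TorusBc
import Groth.Agent.Sga3B.PinComb829

/-!
# The standard Borel subgroup of a split reductive group over any base
-/

set_option autoImplicit false
set_option linter.unusedSectionVars false

universe u

open CategoryTheory MonoidalCategory CartesianMonoidalCategory MonObj GrpObj AlgebraicGeometry
  Limits

namespace Groth.Agent.RedSub.H634.BorelStd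

open Groth.Agent.Sga3B Groth.Agent.Sga3B.Parab Groth.Agent.Sga3B.Par
  Groth.Agent.RedSub.H634.TorusCent Groth.Agent.RedSub.H634.BorelCoord

/-- (K1), discharged. -/
theorem dynK1' : DynK1.{u} := PbK1.dynK1 (fun K _ _ => PbAll.k1 K)

section

variable {S : Scheme.{u}} {G P : Over S} [GrpObj G] [GrpObj P] (D : Red.SplitRed G)
  (x : Module.Dual ℤ D.M) {p : P ⟶ G}

/-- **`P_G(λ)` is a Borel subgroup for a regular cocharacter `λ` of the torus.** -/
theorem isBorel_of_isDynP (hx : ∀ a, x (D.P.root a) ≠ 0) (hP : Parab.IsDynP (coch D x) p) :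
    Red.IsBorel p := by
  have hGa : IsAffineHom G.hom := D.reductive.1
  have hGs : Smooth G.hom := D.reductive.2.1
  have hZ := isDynZ_of_regular D x hx
  refine ⟨hP.isMonHom, hP.isClosedImmersion, hP.smooth, fun s => ?_⟩
  exact DynBorel128.isBorelOver_of_isDynP dynK1' (D.reductive.2.2 s) _ (hZ.bc (Red.geomPt s))
    (TorusBc.isTorus_bc (Red.geomPt s) D.maximalTorus.2.2.1) (hP.bc (Red.geomPt s))

end

section comb

variable {idx M : Type} [Fintype idx] [AddCommGroup M] [Module.Free ℤ M] [Module.Finite ℤ M]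
  {P : RootPairing idx ℤ M (Module.Dual ℤ M)} (b : P.Base)

/-- a functional positive exactly on the positive roots -/
theorem exists_functional : ∃ x : Module.Dual ℤ M, (∀ a, x (P.root a) ≠ 0) ∧
    ∀ a, a ∈ _root_.RedSub.posRoots P b ↔ 0 < x (P.root a) := by
  obtain ⟨lam, n, hn, h⟩ := PinComb.exists_height_functional b
  have hsimple : ∀ i ∈ b.support, 0 < lam (P.root i) := by
    intro i hi
    rw [h, RootPairing.Base.height_one_of_mem_support hi, _root_.mul_one]
    exact hn
  have hcl : ∀ y ∈ AddSubmonoid.closure (P.root '' (b.support : Set idx)),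
      0 ≤ lam y ∧ (lam y = 0 → y = 0) := by
    intro y hy
    induction hy using AddSubmonoid.closure_induction with
    | mem y hy =>
      obtain ⟨i, hi, rfl⟩ := hy
      have := hsimple i hi
      exact ⟨this.le, fun h0 => absurd h0 this.ne'⟩
    | zero => exact ⟨by rw [map_zero], fun _ => rfl⟩
    | add y z _ _ hy hz =>
      rw [map_add]
      refine ⟨add_nonneg hy.1 hz.1, fun h0 => ?_⟩
      have h1 := hy.1
      have h2 := hz.1
      rw [hy.2 (by omega), hz.2 (by omega), add_zero]
  have hpos : ∀ a, a ∈ _root_.RedSub.posRoots P b → 0 < lam (P.root a) := by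
    intro a ha
    obtain ⟨h1, h2⟩ := hcl _ ha
    exact lt_of_le_of_ne h1 fun h0 => P.ne_zero a (h2 h0.symm)
  have hneg : ∀ a, a ∉ _root_.RedSub.posRoots P b → lam (P.root a) < 0 := by
    intro a ha
    have h3 : -P.root a ∈ AddSubmonoid.closure (P.root '' (b.support : Set idx)) :=
      (b.root_mem_or_neg_mem a).resolve_left ha
    obtain ⟨h1, h2⟩ := hcl _ h3
    rw [map_neg] at h1 h2
    refine lt_of_le_of_ne (by omega) fun h0 => P.ne_zero a ?_
    exact neg_eq_zero.mp (h2 (by rw [h0, neg_zero]))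
  refine ⟨lam.toIntLinearMap, fun a => ?_, fun a => ⟨hpos a, fun h0 => ?_⟩⟩
  · change lam (P.root a) ≠ 0
    by_cases ha : a ∈ _root_.RedSub.posRoots P b
    · exact (hpos a ha).ne'
    · exact (hneg a ha).ne
  · by_contra ha
    exact absurd h0 (not_lt.mpr (hneg a ha).le)

end comb

/-- **Main theorem.** -/
theorem main {S : Scheme.{u}} {G : Over S} [GrpObj G] (D : Red.SplitRed G)
    (b : D.P.Base) {m : ℕ} (epos : Fin m → D.idx)
    (hpos : _root_.RedSub.Enumerates (_root_.RedSub.posRoots D.P b) epos) :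
    IsClosedImmersion (_root_.RedSub.borelMap D epos).left ∧
      ∃ (B : Over S) (_ : GrpObj B) (i : B ⟶ G)
        (e : D.T ⊗ _root_.RedSub.pow (Red.Ga S) m ≅ B),
        Red.IsBorel i ∧ e.hom ≫ i = _root_.RedSub.borelMap D epos := by
  have hGa : IsAffineHom G.hom := D.reductive.1
  obtain ⟨x, hx, hxpos⟩ := exists_functional b
  obtain ⟨P, _, p, hP, hcl⟩ := DynExist998.exists_isDynP (lam := coch D x)
  have hB := isBorel_of_isDynP D x hx hP
  obtain ⟨f, hf⟩ := exists_iso D x hx hP epos hpos.1 (fun a => by rw [hpos.2]; exact hxpos a)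
  refine ⟨?_, P, inferInstance, p, f, hB, hf⟩
  have h1 : IsIso f.hom.left := (Over.forget _).map_isIso f.hom
  have h2 : IsClosedImmersion p.left := hB.2.1
  rw [← hf, Over.comp_left]
  infer_instance

end Groth.Agent.RedSub.H634.BorelStd
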