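import Groth.Agent.Sga3B.Par.CanSigns
import Groth.Agent.Sga3B.CellCI
import Groth.Agent.Sga3B.AffYoneda
import Groth.Agent.Sga3B.Parab.DynExist998
import Groth.Agent.Sga3B.BorRP478

/-!
# The centralizer of a regular cocharacter of a split torus is the torus (any base)
-/

set_option autoImplicit false
set_option linter.unusedSectionVars false

universe u

open CategoryTheory MonoidalCategory CartesianMonoidalCategory MonObj GrpObj AlgebraicGeometry
  Limits
open scoped LaurentPolynomial Polynomial TensorProduct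

namespace Groth.Agent.RedSub.H634.TorusCent

open Groth.Agent.Sga3B Groth.Agent.Sga3B.Cell Groth.Agent.Sga3B.Cell.Datum
  Groth.Agent.Sga3B.Parab Groth.Agent.Sga3B.DSPts Groth.Agent.Sga3B.GaPts
  Groth.Agent.Sga3B.Par Groth.Agent.Sga3B.Par.Signs Groth.Agent.Sga3B.PinMod

section datum

variable {R A : Type u} [CommRing R] [CommRing A] [Algebra R A] [PtGrp R A] {D : Datum R A}
variable {B C : Type u} [CommRing B] [Algebra R B] [CommRing C] [Algebra R C]

/-- a point which becomes a torus point after an injective base change is a torus point -/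
theorem exists_i_of_map {φ : B →ₐ[R] C} (hφ : Function.Injective φ) {h : Pt R A B}
    {s : TPt D.M C} (hs : Pt.map φ h = D.i C s) : ∃ t : TPt D.M B, h = D.i B t := by
  have hker : ∀ f : A, D.pi f = 0 → h.hom f = 0 := by
    intro f hf
    apply hφ
    rw [map_zero]
    have h1 := congrArg (fun z : Pt R A C => z.hom f) hs
    simp only [Pt.map_hom_apply] at h1
    rw [h1, i_hom_apply, hf, map_zero]
  let g : MonoidAlgebra R (Multiplicative D.M) →+* B :=
    (RingHom.liftOfSurjective (D.pi : A →+* MonoidAlgebra R (Multiplicative D.M)) D.pi_surjective)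
      ⟨(h.hom : A →+* B), fun f hf => hker f hf⟩
  have hg : ∀ f : A, g (D.pi f) = h.hom f := fun f =>
    RingHom.liftOfRightInverse_comp_apply _ _ _ ⟨(h.hom : A →+* B), fun f hf => hker f hf⟩ f
  let ψ : MonoidAlgebra R (Multiplicative D.M) →ₐ[R] B :=
    { g with
      commutes' := fun r => by
        change g (algebraMap R _ r) = algebraMap R B r
        rw [← D.pi.commutes, hg, h.hom.commutes] }
  have hψ : ∀ f, ψ (D.pi f) = h.hom f := hg
  refine ⟨TPt.map ψ (D.sU (B := R)), ?_⟩
  rw [← D.i_nat]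
  apply Pt.ext
  intro f
  exact (hψ f).symm

/-- **A point commuting with a regular cocharacter is a point of the torus.** -/
theorem exists_i_of_comm [Algebra.Smooth R A] (hG : D.Good) (hD : GeomDom R A)
    {lam : D.M →+ ℤ} (hlam : ∀ a, lam (D.root a) ≠ 0) {h : Pt R A B}
    (hh : Pt.map (lC R B) h * D.i _ (D.cochar lam) = D.i _ (D.cochar lam) * Pt.map (lC R B) h) :
    ∃ t : TPt D.M B, h = D.i B t := by
  obtain ⟨δ, hδ, hδ0⟩ := hG (triList (fun b => lam (D.root b))) triList_nodup mem_triList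
  obtain ⟨B₂, _, _, φ, hφ, x, x', t, t', -, -, hq⟩ := exists_cover hD hδ hδ0 h
  have hφi : Function.Injective φ := hφ.injective
  set Φ : B[T;T⁻¹] →ₐ[R] B₂[T;T⁻¹] := AddMonoidAlgebra.mapAlgHom ℤ φ with hΦ
  have hΦC : Φ.comp (lC R B) = (lC R B₂).comp φ := by
    refine AlgHom.ext fun b => ?_
    rw [AlgHom.comp_apply, AlgHom.comp_apply, lC_apply, lC_apply, hΦ]
    exact AddMonoidAlgebra.mapAlgHom_single _ _ _
  have hΦc : ∀ nu : D.M →+ ℤ, TPt.map Φ (D.cochar nu : TPt D.M B[T;T⁻¹]) = D.cochar nu := by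
    intro nu
    apply TPt.ext_ch
    intro m
    rw [TPt.ch_map, ch_cochar, ch_cochar, hΦ]
    refine (AddMonoidAlgebra.mapAlgHom_single _ _ _).trans ?_
    rw [map_one]
    rfl
  have hh₂ : Pt.map (lC R B₂) (Pt.map φ h) * D.i _ (D.cochar lam) =
      D.i _ (D.cochar lam) * Pt.map (lC R B₂) (Pt.map φ h) := by
    have h1 := congrArg (Pt.map Φ) hh
    rw [Pt.map_mul, Pt.map_mul, Pt.map_map, hΦC, D.i_nat, hΦc, ← Pt.map_map] at h1
    exact h1
  have h2 := exists_levi_of_quot hδ hδ0 hh₂ hq
  have e0 : ∀ y : D.idx → B₂, (fun b => if lam (D.root b) = 0 then y b else 0) =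
      fun _ => (0 : B₂) := by
    intro y
    funext b
    exact if_neg (hlam b)
  rw [e0, e0, cell_zero, i_one', _root_.mul_one, _root_.one_mul] at h2
  exact exists_i_of_map hφi h2

end datum

section scheme

variable {S : Scheme.{u}} {G : Over S} [GrpObj G] (D : Red.SplitRed G) (x : Module.Dual ℤ D.M)

/-- affine points centralizing a regular cocharacter come from the torus -/
theorem exists_torus_of_orbConst (hx : ∀ a, x (D.P.root a) ≠ 0) {C : Type u} [CommRing C]
    {c : Spec (CommRingCat.of C) ⟶ S} {g : aff C c ⟶ G} (hg : OrbConst (coch D x) g) :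
    ∃ t : aff C c ⟶ D.T, t ≫ D.i = g := by
  have haff := D.reductive.1
  obtain ⟨ch⟩ := exists_chart G c
  have := ch.smooth D.reductive
  rw [orbConst_iff ch] at hg
  obtain ⟨t, ht⟩ := exists_i_of_comm (D := ch.datum D) (ch.good D)
    (fun K _ _ _ => ch.geomDom D.reductive K) (lam := ca ch D x) hx hg
  have h1 : (Signs.kap c).hom ≫ g = dsEquiv (tB c C) D.M (chΓ c t) ≫ Chart.j D := by
    rw [← ch.pts_i, ← ht, co, MulEquiv.apply_symm_apply]
  refine ⟨(Signs.kap c).inv ≫ dsEquiv (tB c C) D.M (chΓ c t) ≫ Chart.splitInv D, ?_⟩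
  rw [← cancel_epi (Signs.kap c).hom, h1]
  simp [Chart.j_eq]

/-- the torus centralizes its cocharacters -/
theorem orbConst_torus {C : Type u} [CommRing C] {c : Spec (CommRingCat.of C) ⟶ S}
    (t : aff C c ⟶ D.T) : OrbConst (coch D x) (t ≫ D.i) := by
  have : IsMonHom D.i := D.maximalTorus.1
  have h1 : tPt C c ≫ coch D x = (tPt C c ≫ cochT D x) ≫ D.i := by
    rw [coch, Category.assoc]
  have h2 : gmPr C c ≫ t ≫ D.i = (gmPr C c ≫ t) ≫ D.i := (Category.assoc _ _ _).symm
  rw [OrbConst, orb, h1, h2, ← MonObj.mul_comp, BorRP478.torus_comm D, MonObj.mul_comp]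
  group

/-- **`Z_G(λ) = T` for a regular cocharacter `λ` of the torus of a splitting.** -/
theorem isDynZ_of_regular (hx : ∀ a, x (D.P.root a) ≠ 0) : Parab.IsDynZ (coch D x) D.i := by
  have hmono : Mono D.i := D.maximalTorus.2.1
  refine ⟨D.maximalTorus.1, hmono, fun X g => ⟨?_, ?_⟩⟩
  · rintro ⟨y, rfl⟩ C _ c z
    have := orbConst_torus D x (z ≫ y)
    rwa [Category.assoc] at this
  · intro hg
    have hloc : ∀ (R : CommRingCat.{u}) (s : Spec R ⟶ S) (t : Over.mk s ⟶ X),
        ∃ τ : Over.mk s ⟶ D.T, τ ≫ D.i = t ≫ g := by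
      intro R s t
      exact exists_torus_of_orbConst (C := R) (c := s) D x hx (hg R s t)
    choose F hF using hloc
    obtain ⟨t, ht, -⟩ := AffYoneda.existsUnique_hom (G := X) (G' := D.T) F (by
      intro R R' s s' h t
      rw [← cancel_mono D.i, hF, Category.assoc, Category.assoc, hF])
    refine ⟨t, ?_⟩
    apply AffYoneda.hom_ext
    intro R s y
    rw [← Category.assoc, ht, hF]

end scheme

end Groth.Agent.RedSub.H634.TorusCent
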